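import Cfsg.Agent.H921.K4.Uniq_m3
import Cfsg.Agent.H362.Dl.SixtyFour
import Cfsg.Agent.S4623
import Cfsg.Agent.TypeM.OutLyFin
import Cfsg.Agent.TypeM.FactsAut
import Cfsg.Agent.Prune
set_option linter.all false

section
prune_inst 0x7f00000000000000000000000000000000000000000000000000000000000000000000000000000000000000000000000000000000000000000000000000000000000000000000000000000000000000003fffffffffffffffffffffffffffbeffbdffffffff

-- part: H473/K547/Alt
section
set_option linter.all false
open scoped Cfsg.Agent.FastGrp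

-- part: H473/K547/Elem
section
/-!
# S4547, tool T3 (helper473)

* `rk_of_card` : `x ^ 2 ∈ P'` for all `x`, `8 ≤ |P : P'|` : `Rk 3 P`;
* `exists_cyclic` : a finite 2-group with `x ^ 2 ∈ P'` for all `x` and `|P : P'| ≤ 4` has a cyclic subgroup of index at
  most two;
* `not_elementary` : such a group has no elementary abelian subgroup of order 8;
* `d3_of_elementary` : the Sylow 2-subgroups satisfy `x ^ 2 ∈ P'` and `G` has an elementary abelian subgroup of order 8:
  `D3 G`; `d3_of_elementary_quot` : the same for a quotient.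
-/

set_option autoImplicit false
set_option linter.unusedSectionVars false

namespace Cfsg.Agent.H473.K547

open Subgroup Cfsg Cfsg.Agent.H821.K547

universe u v

section

variable {P : Type u} [Group P] [Finite P]

theorem rk_of_card (h : ∀ x : P, x ^ 2 ∈ commutator P) (hc : 8 ≤ Nat.card (P ⧸ commutator P)) : Rk 3 P := by
  let A := Additive (Abelianization P)
  have h2 : ∀ a : A, (2 : ℕ) • a = 0 := by
    intro a
    obtain ⟨x, hx⟩ := QuotientGroup.mk_surjective (Additive.toMul a : Abelianization P)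
    have h3 : (Additive.toMul a : Abelianization P) ^ 2 = 1 := by
      rw [← hx]
      exact (QuotientGroup.eq_one_iff (x ^ 2)).2 (h x)
    exact h3
  let _ : Module (ZMod 2) A := AddCommGroup.zmodModule h2
  have hfin : Finite A := inferInstanceAs (Finite (P ⧸ commutator P))
  have hfd : FiniteDimensional (ZMod 2) A := Module.Finite.of_finite
  have hcard : Nat.card A = 2 ^ Module.finrank (ZMod 2) A := by
    have := Module.natCard_eq_pow_finrank (K := ZMod 2) (V := A)
    rwa [Nat.card_zmod] at this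
  have h8 : 2 ^ 3 ≤ 2 ^ Module.finrank (ZMod 2) A := by
    rw [← hcard]
    exact hc
  have h3 : 3 ≤ Module.finrank (ZMod 2) A := (Nat.pow_le_pow_iff_right (by norm_num)).1 h8
  let b := Module.finBasis (ZMod 2) A
  let F : A →ₗ[ZMod 2] (Fin 3 → ZMod 2) :=
    (LinearMap.funLeft (ZMod 2) (ZMod 2) (Fin.castLE h3)).comp b.equivFun.toLinearMap
  have hF : Function.Surjective F :=
    (LinearMap.funLeft_surjective_of_injective (ZMod 2) (ZMod 2) _ (Fin.castLE_injective h3)).comp b.equivFun.surjective
  let f : P →* Multiplicative (Fin 3 → ZMod 2) :=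
    { toFun := fun x => Multiplicative.ofAdd (F (Additive.ofMul (Abelianization.of x)))
      map_one' := by rw [map_one, ofMul_one, map_zero, ofAdd_zero]
      map_mul' := fun x y => by rw [map_mul, ofMul_mul, map_add, ofAdd_add] }
  refine ⟨f, fun v => ?_⟩
  obtain ⟨a, ha⟩ := hF (Multiplicative.toAdd v)
  obtain ⟨x, hx⟩ := QuotientGroup.mk_surjective (Additive.toMul a : Abelianization P)
  refine ⟨x, ?_⟩
  change Multiplicative.ofAdd (F (Additive.ofMul (Abelianization.of x))) = v
  have h4 : (Abelianization.of x : Abelianization P) = Additive.toMul a := hx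
  rw [h4, ofMul_toMul, ha, ofAdd_toAdd]

theorem exists_cyclic {n : ℕ} (hn : Nat.card P = 2 ^ n) (h : ∀ x : P, x ^ 2 ∈ commutator P)
    (hc : Nat.card (P ⧸ commutator P) < 8) : ∃ C : Subgroup P, IsCyclic C ∧ C.index ≤ 2 := by
  have hf : Fact (Nat.Prime 2) := ⟨Nat.prime_two⟩
  have hP : IsPGroup 2 P := IsPGroup.iff_card.2 ⟨n, hn⟩
  have hnil : Group.IsNilpotent P := hP.isNilpotent
  obtain ⟨k, hk⟩ := (Nat.dvd_prime_pow Nat.prime_two).1 (hn ▸ Subgroup.card_quotient_dvd_card (commutator P))
  have hk3 : k < 3 := by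
    by_contra hcon
    push Not at hcon
    have := Nat.pow_le_pow_right (show 0 < 2 by norm_num) hcon
    omega
  by_cases hcyc : IsCyclic P
  · refine ⟨⊤, ?_, by rw [index_top]; norm_num⟩
    exact isCyclic_of_surjective (Subgroup.topEquiv : (⊤ : Subgroup P) ≃* P).symm.toMonoidHom
      (Subgroup.topEquiv : (⊤ : Subgroup P) ≃* P).symm.surjective
  · have hncyc : ¬ IsCyclic (P ⧸ commutator P) := fun h1 =>
      hcyc (Cfsg.Agent.H362.Dl.isCyclic_of_abelianization hnil h1)
    have hk2 : k = 2 := by
      interval_cases k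
      · exfalso
        apply hncyc
        have : Subsingleton (P ⧸ commutator P) := (Nat.card_eq_one_iff_unique.1 (by simpa using hk.2)).1
        infer_instance
      · exfalso
        apply hncyc
        exact isCyclic_of_prime_card (p := 2) (by simpa using hk.2)
      · rfl
    have h4 : Nat.card (P ⧸ commutator P) = 4 := by rw [hk.2, hk2]; norm_num
    by_cases hn3 : 3 ≤ n
    · have hkl : IsKleinFour (P ⧸ commutator P) := by
        refine ⟨h4, ?_⟩
        have hd : Monoid.exponent (P ⧸ commutator P) ∣ 2 := by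
          refine Monoid.exponent_dvd_of_forall_pow_eq_one fun a => ?_
          obtain ⟨x, rfl⟩ := QuotientGroup.mk_surjective a
          exact (QuotientGroup.eq_one_iff (x ^ 2)).2 (h x)
        rcases (Nat.dvd_prime Nat.prime_two).1 hd with h1 | h1
        · exfalso
          have : Subsingleton (P ⧸ commutator P) := Monoid.exp_eq_one_iff.1 h1
          have h5 : Nat.card (P ⧸ commutator P) = 1 := Nat.card_of_subsingleton (1 : P ⧸ commutator P)
          omega
        · exact h1
      obtain ⟨C, hC, hi⟩ := Cfsg.Agent.S0113.result n hn3 hn ((Cfsg.Agent.S0115.result n hn3 hn).2 hkl)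
      exact ⟨C, hC, hi.le⟩
    · have hn2 : Nat.card P ≤ 4 := by
        rw [hn]
        calc 2 ^ n ≤ 2 ^ 2 := Nat.pow_le_pow_right (by norm_num) (by omega)
          _ = 4 := by norm_num
      have hnt : Nontrivial P := by
        by_contra hcon
        have := not_nontrivial_iff_subsingleton.1 hcon
        exact hcyc inferInstance
      obtain ⟨x, hx⟩ := exists_ne (1 : P)
      refine ⟨zpowers x, inferInstance, ?_⟩
      have h5 := (zpowers x).card_mul_index
      have h6 : 2 ≤ Nat.card (zpowers x) := by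
        have h7 : 1 < Nat.card (zpowers x) := by
          rw [Subgroup.one_lt_card_iff_ne_bot, Ne, zpowers_eq_bot]
          exact hx
        omega
      by_contra hcon
      push Not at hcon
      have : 2 * 3 ≤ Nat.card (zpowers x) * (zpowers x).index := Nat.mul_le_mul h6 hcon
      omega

/-- a cyclic subgroup of index at most two meets an elementary abelian group of order 8 in a noncyclic group -/
theorem not_elementary {C E : Subgroup P} (hC : IsCyclic C) (hi : C.index ≤ 2) (hE : Nat.card E = 8)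
    (h2 : ∀ x ∈ E, x ^ 2 = 1) : False := by
  have h0 : C.index ≠ 0 := index_ne_zero_of_finite
  have h1 : (C ⊓ E).relIndex E ≤ C.index := by
    rw [inf_relIndex_right, ← relIndex_top_right]
    exact relIndex_le_of_le_right le_top (by rw [relIndex_top_right]; exact h0)
  have h3 : Nat.card ↥(C ⊓ E : Subgroup P) * (C ⊓ E).relIndex E = 8 := by
    rw [← hE, ← ((C ⊓ E).subgroupOf E).card_mul_index,
      Nat.card_congr (subgroupOfEquivOfLe (inf_le_right : C ⊓ E ≤ E)).toEquiv]
    rfl
  have h4 : 4 ≤ Nat.card ↥(C ⊓ E : Subgroup P) := by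
    by_contra hcon
    push Not at hcon
    have : Nat.card ↥(C ⊓ E : Subgroup P) * (C ⊓ E).relIndex E ≤ 3 * 2 :=
      Nat.mul_le_mul (by omega) (h1.trans hi)
    omega
  -- a cyclic group has at most two solutions of `x ^ 2 = 1`
  have h5 : Nat.card {x : C // x ^ 2 = 1} ≤ 2 := by
    classical
    have : Fintype C := Fintype.ofFinite _
    have h6 := IsCyclic.card_pow_eq_one_le (α := C) (n := 2) (by norm_num)
    rw [Nat.card_eq_fintype_card, Fintype.card_subtype]
    exact h6
  let g : ↥(C ⊓ E : Subgroup P) → {x : C // x ^ 2 = 1} := fun x =>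
    ⟨⟨x, (mem_inf.1 x.2).1⟩, Subtype.ext (h2 x (mem_inf.1 x.2).2)⟩
  have hg : Function.Injective g := fun x y hxy => Subtype.ext
    (congrArg (fun z : {x : C // x ^ 2 = 1} => ((z : C) : P)) hxy)
  have h7 := Nat.card_le_card_of_injective g hg
  omega

end

theorem rk_congr {n : ℕ} {P : Type u} {P' : Type v} [Group P] [Group P'] (e : P ≃* P') (h : Rk n P') : Rk n P := by
  obtain ⟨g, hg⟩ := h
  exact ⟨g.comp e.toMonoidHom, hg.comp e.surjective⟩

/-- a 2-group with `x ^ 2 ∈ P'` for all `x` and an elementary abelian subgroup of order 8 -/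
theorem rk_of_elementary {P : Type u} [Group P] [Finite P] {n : ℕ} (hn : Nat.card P = 2 ^ n)
    (h : ∀ x : P, x ^ 2 ∈ commutator P) {E : Subgroup P} (hE : Nat.card E = 8) (h2 : ∀ x ∈ E, x ^ 2 = 1) :
    Rk 3 P := by
  by_cases hc : 8 ≤ Nat.card (P ⧸ commutator P)
  · exact rk_of_card h hc
  · exfalso
    obtain ⟨C, hC, hi⟩ := exists_cyclic hn h (by omega)
    exact not_elementary hC hi hE h2

/-- **T3** -/
theorem d3_of_elementary {G : Type u} [Group G] [Finite G]
    (h : ∀ (P : Sylow 2 G) (x : (P : Subgroup G)), x ^ 2 ∈ commutator ↥(P : Subgroup G)) {E : Subgroup G}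
    (hE : Nat.card E = 8) (h2 : ∀ x ∈ E, x ^ 2 = 1) : D3 G := by
  intro Q
  have : Fact (Nat.Prime 2) := ⟨Nat.prime_two⟩
  have hEp : IsPGroup 2 E := IsPGroup.of_card (n := 3) (by rw [hE]; norm_num)
  obtain ⟨P, hP⟩ := hEp.exists_le_sylow
  obtain ⟨n, hn⟩ := IsPGroup.iff_card.1 P.isPGroup'
  refine rk_congr (Sylow.equiv Q P) (rk_of_elementary (P := ↥(P : Subgroup G)) (n := n) hn (h P)
    (E := E.subgroupOf P) ?_ ?_)
  · rw [Nat.card_congr (subgroupOfEquivOfLe hP).toEquiv, hE]
  · intro x hx
    exact Subtype.ext (h2 x (mem_subgroupOf.1 hx))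

/-- **T3 for quotients** -/
theorem d3_of_elementary_quot {G : Type u} [Group G] [Finite G] {Y : Type v} [Group Y] [Finite Y] (f : G →* Y)
    (hf : Function.Surjective f)
    (h : ∀ (P : Sylow 2 G) (x : (P : Subgroup G)), x ^ 2 ∈ commutator ↥(P : Subgroup G)) {E : Subgroup Y}
    (hE : Nat.card E = 8) (h2 : ∀ x ∈ E, x ^ 2 = 1) : D3 Y := by
  have : Fact (Nat.Prime 2) := ⟨Nat.prime_two⟩
  refine d3_of_elementary (fun P x => ?_) hE h2
  -- the Sylow subgroups of `Y` are images
  obtain ⟨S⟩ : Nonempty (Sylow 2 G) := inferInstance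
  let T : Sylow 2 Y := S.mapSurjective hf
  have hT : ∀ y : ↥((S : Subgroup G).map f), y ^ 2 ∈ commutator ↥((S : Subgroup G).map f) := by
    intro y
    obtain ⟨s, rfl⟩ := f.subgroupMap_surjective (S : Subgroup G) y
    rw [← map_pow]
    have h1 := Subgroup.mem_map_of_mem (f.subgroupMap (S : Subgroup G)) (h S s)
    have h3 : (commutator ↥(S : Subgroup G)).map (f.subgroupMap (S : Subgroup G)) ≤
        commutator ↥((S : Subgroup G).map f) := by
      rw [commutator_def, commutator_def, Subgroup.map_commutator]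
      exact Subgroup.commutator_mono le_top le_top
    exact h3 h1
  have e : ↥(P : Subgroup Y) ≃* ↥((S : Subgroup G).map f) := Sylow.equiv P T
  have h4 := Subgroup.mem_map_of_mem e.symm.toMonoidHom (hT (e x))
  have h5 : (commutator ↥((S : Subgroup G).map f)).map e.symm.toMonoidHom ≤ commutator ↥(P : Subgroup Y) := by
    rw [commutator_def, commutator_def, Subgroup.map_commutator]
    exact Subgroup.commutator_mono le_top le_top
  have h6 := h5 h4
  rw [map_pow] at h6
  have h7 : e.symm.toMonoidHom (e x) = x := e.symm_apply_apply x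
  rwa [h7] at h6

end Cfsg.Agent.H473.K547
end

-- part: H473/K547/Alt
section
/-!
# S4547: the Sylow 2-subgroups of the alternating groups (helper473)

`d3_alt` : `D3 (A_n)` for `n ≥ 8`; `d3_perm` : `D3 (S_n)` for `n ≥ 6`.
-/

set_option autoImplicit false
set_option linter.unusedSectionVars false

namespace Cfsg.Agent.H473.K547

open Subgroup Cfsg Cfsg.Agent.H821.K547 Equiv

/-- an elementary abelian group of order 8 -/
def pe (a b c : ZMod 2) : Perm (Fin 8) :=
  (if a = 1 then swap (0 : Fin 8) 1 else 1) * (if b = 1 then swap (2 : Fin 8) 3 else 1) * (if c = 1 then swap (4 : Fin 8) 5 else 1) *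
    (if a + b + c = 1 then swap (6 : Fin 8) 7 else 1)

theorem pe_mul : ∀ a b c a' b' c' : ZMod 2, pe (a + a') (b + b') (c + c') = pe a b c * pe a' b' c' := by
  decide +kernel

theorem pe_inj : ∀ a b c : ZMod 2, pe a b c = 1 → a = 0 ∧ b = 0 ∧ c = 0 := by
  decide +kernel

theorem pe_sign : ∀ a b c : ZMod 2, Perm.sign (pe a b c) = 1 := by
  decide +kernel

/-- an elementary abelian group of order 8 -/
def ps (a b c : ZMod 2) : Perm (Fin 6) :=
  (if a = 1 then swap (0 : Fin 6) 1 else 1) * (if b = 1 then swap (2 : Fin 6) 3 else 1) * (if c = 1 then swap (4 : Fin 6) 5 else 1)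

theorem ps_mul : ∀ a b c a' b' c' : ZMod 2, ps (a + a') (b + b') (c + c') = ps a b c * ps a' b' c' := by
  decide +kernel

theorem ps_inj : ∀ a b c : ZMod 2, ps a b c = 1 → a = 0 ∧ b = 0 ∧ c = 0 := by
  decide +kernel

section

variable {m n : ℕ}

/-- `S_m ≤ S_n` -/
noncomputable def emb (h : m ≤ n) : Perm (Fin m) →* Perm (Fin n) :=
  Perm.extendDomainHom (Fin.castLEEmb h).toEquivRange

theorem emb_injective (h : m ≤ n) : Function.Injective (emb h) := Perm.extendDomainHom_injective _

theorem sign_emb (h : m ≤ n) (σ : Perm (Fin m)) : Perm.sign (emb h σ) = Perm.sign σ :=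
  Perm.sign_extendDomain _ _

end

/-- the elementary abelian group of order 8 -/
abbrev V8 : Type := Multiplicative (ZMod 2 × ZMod 2 × ZMod 2)

theorem card_V8 : Nat.card V8 = 8 := by
  rw [Nat.card_eq_fintype_card]
  rfl

theorem sq_V8 : ∀ v : V8, v ^ 2 = 1 := by decide

/-- the elementary abelian subgroup -/
noncomputable def homA {n : ℕ} (hn : 8 ≤ n) : V8 →* alternatingGroup (Fin n) :=
  { toFun := fun v => ⟨emb hn (pe v.toAdd.1 v.toAdd.2.1 v.toAdd.2.2), by
      rw [Perm.mem_alternatingGroup, sign_emb, pe_sign]⟩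
    map_one' := Subtype.ext (by
      have h : pe 0 0 0 = 1 := by decide
      show emb hn (pe 0 0 0) = 1
      rw [h, map_one])
    map_mul' := fun v w => Subtype.ext (by
      show emb hn (pe (v.toAdd.1 + w.toAdd.1) (v.toAdd.2.1 + w.toAdd.2.1) (v.toAdd.2.2 + w.toAdd.2.2)) =
        emb hn (pe v.toAdd.1 v.toAdd.2.1 v.toAdd.2.2) * emb hn (pe w.toAdd.1 w.toAdd.2.1 w.toAdd.2.2)
      rw [pe_mul, map_mul]) }

theorem homA_injective {n : ℕ} (hn : 8 ≤ n) : Function.Injective (homA hn) := by
  rw [injective_iff_map_eq_one]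
  intro v hv
  have h1 : emb hn (pe v.toAdd.1 v.toAdd.2.1 v.toAdd.2.2) = 1 := congrArg Subtype.val hv
  have h2 := emb_injective hn (h1.trans (map_one (emb hn)).symm)
  obtain ⟨h3, h4, h5⟩ := pe_inj _ _ _ h2
  exact Multiplicative.toAdd.injective (Prod.ext h3 (Prod.ext h4 h5))

/-- **`A_n`, `n ≥ 8`** -/
theorem d3_alt {n : ℕ} (hn : 8 ≤ n) : D3 (alternatingGroup (Fin n)) := by
  have : Fact (Nat.Prime 2) := ⟨Nat.prime_two⟩
  refine d3_of_elementary (fun P x => (Cfsg.Agent.S4623.result 2 n default P).2 x) (E := (homA hn).range) ?_ ?_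
  · rw [← Nat.card_congr (MonoidHom.ofInjective (homA_injective hn)).toEquiv, card_V8]
  · rintro _ ⟨v, rfl⟩
    rw [← map_pow, sq_V8, map_one]

/-- the elementary abelian subgroup -/
noncomputable def homS {n : ℕ} (hn : 6 ≤ n) : V8 →* Perm (Fin n) :=
  { toFun := fun v => emb hn (ps v.toAdd.1 v.toAdd.2.1 v.toAdd.2.2)
    map_one' := by
      have h : ps 0 0 0 = 1 := by decide
      show emb hn (ps 0 0 0) = 1
      rw [h, map_one]
    map_mul' := fun v w => by
      show emb hn (ps (v.toAdd.1 + w.toAdd.1) (v.toAdd.2.1 + w.toAdd.2.1) (v.toAdd.2.2 + w.toAdd.2.2)) =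
        emb hn (ps v.toAdd.1 v.toAdd.2.1 v.toAdd.2.2) * emb hn (ps w.toAdd.1 w.toAdd.2.1 w.toAdd.2.2)
      rw [ps_mul, map_mul] }

theorem homS_injective {n : ℕ} (hn : 6 ≤ n) : Function.Injective (homS hn) := by
  rw [injective_iff_map_eq_one]
  intro v hv
  have h1 : emb hn (ps v.toAdd.1 v.toAdd.2.1 v.toAdd.2.2) = 1 := hv
  have h2 := emb_injective hn (h1.trans (map_one (emb hn)).symm)
  obtain ⟨h3, h4, h5⟩ := ps_inj _ _ _ h2
  exact Multiplicative.toAdd.injective (Prod.ext h3 (Prod.ext h4 h5))

end Cfsg.Agent.H473.K547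
end
end

-- part: H473/K547/Ly
section
set_option linter.all false
open scoped Cfsg.Agent.FastGrp

/-!
# S4547, the row of the Lyons group (helper473, task 5058)

`C(t) = 2.A₁₁` has odd index and maps onto `A₁₁`; all automorphisms are inner.
-/

set_option autoImplicit false
set_option linter.unusedSectionVars false

namespace Cfsg.Agent.H473.K547

open Subgroup Cfsg Cfsg.Agent.H601.K4 Cfsg.Agent.H821.K547 Cfsg.Agent.TypeM.Two

universe u v

theorem rk_of_surj {n : ℕ} {P : Type u} {P' : Type v} [Group P] [Group P'] (f : P →* P')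
    (hf : Function.Surjective f) (h : Rk n P') : Rk n P := by
  obtain ⟨g, hg⟩ := h
  exact ⟨g.comp f, hg.comp hf⟩

/-- **odd index, onto a group whose Sylow 2-subgroups need three generators** -/
theorem d3_of_map {G : Type u} [Group G] [Finite G] {Y : Type v} [Group Y] [Finite Y] (M : Subgroup G)
    (hM : ¬ 2 ∣ M.index) (f : M →* Y) (hf : Function.Surjective f) (hY : D3 Y) : D3 G := by
  intro Q
  have : Fact (Nat.Prime 2) := ⟨Nat.prime_two⟩
  obtain ⟨S⟩ : Nonempty (Sylow 2 M) := inferInstance
  have hS : IsPGroup 2 ↥((S : Subgroup M).map M.subtype) := S.isPGroup'.map _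
  have hc : ¬ 2 ∣ ((S : Subgroup M).map M.subtype).index := by
    rw [← relIndex_mul_index (map_subtype_le (S : Subgroup M)), Nat.prime_two.dvd_mul, not_or]
    refine ⟨?_, hM⟩
    have h1 : ((S : Subgroup M).map M.subtype).relIndex M = (S : Subgroup M).index := by
      rw [relIndex, subgroupOf, comap_map_eq_self_of_injective M.subtype_injective]
    rw [h1]
    exact S.not_dvd_index
  let P : Sylow 2 G := hS.toSylow hc
  let e1 : Q ≃* P := Sylow.equiv Q P
  let e2 : ↥(S : Subgroup M) ≃* ↥((S : Subgroup M).map M.subtype) :=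
    (S : Subgroup M).equivMapOfInjective M.subtype M.subtype_injective
  let T : Sylow 2 Y := S.mapSurjective hf
  let f' : ↥(S : Subgroup M) →* ↥((S : Subgroup M).map f) := f.subgroupMap _
  have hT : Rk 3 ↥((S : Subgroup M).map f) := hY T
  have h1 : Rk 3 ↥(S : Subgroup M) := rk_of_surj f' (f.subgroupMap_surjective _) hT
  have h2 : Rk 3 ↥((S : Subgroup M).map M.subtype) := rk_of_surj e2.symm.toMonoidHom e2.symm.surjective h1
  exact rk_of_surj e1.toMonoidHom e1.surjective h2

/-- groups with `C(t) = 2.A_n` of odd index -/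
theorem d3_of_mt {n : ℕ} {K : Type u} [Group K] [Finite K] (L : MT n K)
    (hi : ¬ 2 ∣ (centralizer ({L.t} : Set K)).index) (hA : D3 (alternatingGroup (Fin n))) : D3 K := by
  let f : centralizer ({L.t} : Set K) →* alternatingGroup (Fin n) :=
    L.K.π.codRestrict (alternatingGroup (Fin n)) fun c => by rw [← L.K.range_eq]; exact ⟨c, rfl⟩
  have hf : Function.Surjective f := by
    rintro ⟨σ, hσ⟩
    rw [← L.K.range_eq] at hσ
    obtain ⟨c, hc⟩ := hσ
    exact ⟨c, Subtype.ext hc⟩
  exact d3_of_map _ hi f hf hA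

/-- the index of `C(t)` is odd -/
theorem odd_index {K : Type u} [Group K] [Finite K] (hcard : Nat.card K = 51765179004000000) (L : MT 11 K) :
    ¬ 2 ∣ (centralizer ({L.t} : Set K)).index := by
  have h1 := (centralizer ({L.t} : Set K)).card_mul_index
  rw [Cfsg.Agent.TypeM.FactsAut.card_centralizer L (by norm_num), hcard,
    show (11 : ℕ).factorial = 39916800 from rfl] at h1
  have h2 : (centralizer ({L.t} : Set K)).index = 1296826875 := by omega
  rw [h2]
  norm_num

/-- **The row of `Ly`** from the good characters and the row of `A₁₁` -/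
theorem row_of {S : Type u} [Group S] (h : Spor.IsoLy S) (hg : Good5 S)
    (hA : D3 (alternatingGroup (Fin 11))) : Row S := by
  obtain ⟨hfin, -, hcard, ⟨L⟩⟩ := Cfsg.Agent.TypeM.FactsLy.facts h
  refine ⟨Or.inl ⟨hg, d3_of_mt L (odd_index hcard L) hA⟩, fun τ _ hτ => ?_⟩
  exfalso
  obtain ⟨s, hs⟩ := Cfsg.Agent.TypeM.OutLyFin.inner h τ
  exact hτ ⟨s, fun x => by rw [← hs]; rfl⟩

/-- **The row of `Ly`** from the good characters -/
theorem row_of_good {S : Type u} [Group S] (h : Spor.IsoLy S) (hg : Good5 S) : Row S :=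
  row_of h hg (d3_alt (by norm_num))

end Cfsg.Agent.H473.K547
end
end
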